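import Cfsg.Agent.Lib.CosetEnum.Defs

/-! Generated table data. -/

set_option autoImplicit false
set_option maxRecDepth 20000

namespace Cfsg.Lib.HeldType.Amalgam.He1

open Cfsg.Lib.CosetEnum

/-- Table data. -/
def tabF_0 : Tab :=
  (.node 1 (.leaf 0xb80002e10000000000a00002e70000000000600001c10000000000500001430000000000680001a20000000000680001a10000000000680001a70000000000680001a50000000000680001a30000000000480001610000000000180000e60000000000380000e00000000000380000e40000000000380000e20000000000200000e30000000000280000a30000000000280000470000000000280000a10000000000200000460000000000200000800000000000200000840000000000200000820000000000180000600000000000180000630000000000080000620000000000100000400000000000100000410000000000100000420000000000080000230000000000080000200000000000080000060000000000000000070000000000000000020000000000000000010000000000000000000000000000980003a60000000000900003800000000000880003660000000000800003470000000000800003250000000000800003000000000000780002e50000000000700002c40000000000700002a20000000000580002850000000000580002640000000000580002420000000000480002240000000000480002020000000000400001e70000000000380001c70000000000280001a00000000000200001870000000000180001670000000000180001450000000000080001270000000000080001050000000000080000e10000000000000000c50000000000100000a5000000000018000081000000000010000064000000000000000043000000000000000024) (.leaf 0x600000000000000000500000000000000000400000000000000000300000000002800001f0000000000280000df00000000002000005f00000000003800001f00000000003800007f00000000002000007f00000000003800003f00000000006000017f00000000007000013f0000000000b000023f0000000000d80003a20000000000a80003870000000000d000031f0000000000c00003810000000000a0000323000000000080000201000000000090000241))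

end Cfsg.Lib.HeldType.Amalgam.He1
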